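import Mathlib
import Groth.Prelude.Def_Exal
import Groth.Prelude.Def_Exal2

/-!
# Basic API for extensions of algebras by modules (`Exal.Ext`)

* `mkEquiv`: a morphism of extensions is an equivalence;
* `diff`: the element of `L` under the difference of two elements with the same projection;
* `diffDer`: two lifts differ by a derivation;
* `Sec X A`: a section of `X` over `A`, with its derivation `Sec.der : Derivation A B L`;
* `equivOfSec`: two extensions with sections having the same derivation are equivalent;
* `derExt D`: the extension attached to a derivation, with arbitrary universe for the base.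
-/

universe u u' v w

namespace Groth.Agent.Exal

open _root_.Exal

section General

variable {A : Type u} {B L : Type v} [CommRing A] [CommRing B] [Algebra A B] [AddCommGroup L] [Module B L]
variable {X Y : Ext A B L}

@[simp] lemma proj_incl (X : Ext A B L) (z : L) : X.proj (X.incl z) = 0 :=
  (X.isExtension.exact _).2 ⟨z, rfl⟩

lemma mul_incl' (X : Ext A B L) (x : X.E) (z : L) : X.incl z * x = X.incl (X.proj x • z) := by
  rw [mul_comm, X.isExtension.mul_incl]

lemma incl_mul_incl (X : Ext A B L) (z z' : L) : X.incl z * X.incl z' = 0 := by
  rw [X.isExtension.mul_incl, proj_incl, zero_smul, map_zero]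

lemma bijective_of_comm (f : X.E →+* Y.E) (hp : ∀ x, Y.proj (f x) = X.proj x)
    (hi : ∀ z, f (X.incl z) = Y.incl z) : Function.Bijective f := by
  refine ⟨(injective_iff_map_eq_zero f).2 fun x hx => ?_, fun y => ?_⟩
  · obtain ⟨z, rfl⟩ := (X.isExtension.exact x).1 (by rw [← hp, hx, map_zero])
    rw [hi] at hx
    rw [Y.isExtension.incl_injective (hx.trans (map_zero _).symm), map_zero]
  · obtain ⟨x, hx⟩ := X.isExtension.proj_surjective (Y.proj y)
    obtain ⟨z, hz⟩ := (Y.isExtension.exact (y - f x)).1 (by rw [map_sub, hp, hx, sub_self])
    exact ⟨x + X.incl z, by rw [map_add, hi, hz, add_sub_cancel]⟩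

/-- A morphism of extensions is an equivalence. -/
noncomputable def mkEquiv (f : X.E →ₐ[A] Y.E) (hp : ∀ x, Y.proj (f x) = X.proj x)
    (hi : ∀ z, f (X.incl z) = Y.incl z) : X.Equiv Y where
  toAlgEquiv := AlgEquiv.ofBijective f (bijective_of_comm f.toRingHom hp hi)
  proj_apply := hp
  apply_incl := hi

/-- The element of `L` under `x - y`. -/
noncomputable def diff (X : Ext A B L) (x y : X.E) (h : X.proj x = X.proj y) : L :=
  X.kerLift (x - y) (by rw [map_sub, h, sub_self])

@[simp] lemma incl_diff (X : Ext A B L) (x y : X.E) (h : X.proj x = X.proj y) :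
    X.incl (diff X x y h) = x - y :=
  X.incl_kerLift _ _

lemma diff_eq_iff (X : Ext A B L) {x y : X.E} (h : X.proj x = X.proj y) (z : L) :
    diff X x y h = z ↔ x = y + X.incl z := by
  constructor
  · rintro rfl; rw [incl_diff, add_sub_cancel]
  · intro hx
    apply X.isExtension.incl_injective
    rw [incl_diff, hx, add_sub_cancel_left]

/-- Every extension of a formally smooth algebra is trivial. -/
lemma isTrivial_of_formallySmooth (X : Ext A B L) [Algebra.FormallySmooth A B] : X.IsTrivial := by
  have h : IsNilpotent (RingHom.ker (X.proj : X.E →+* B)) := ⟨2, by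
    rw [pow_two, Submodule.zero_eq_bot, eq_bot_iff, Ideal.mul_le]
    intro x hx y hy
    obtain ⟨z, rfl⟩ := (X.isExtension.exact x).1 hx
    obtain ⟨z', rfl⟩ := (X.isExtension.exact y).1 hy
    rw [incl_mul_incl]; exact zero_mem _⟩
  exact ⟨Algebra.FormallySmooth.liftOfSurjective (AlgHom.id A B) X.proj
    X.isExtension.proj_surjective h,
    Algebra.FormallySmooth.liftOfSurjective_apply _ _ _ _⟩

section DiffDer

variable {A₀ : Type w} {B₀ : Type u'} [CommRing A₀] [CommRing B₀] [Algebra A₀ B₀]
  [Module B₀ L] [Module A₀ L] [IsScalarTower A₀ B₀ L]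

/-- Two lifts `B₀ → E` of one map `B₀ → B` which agree on `A₀` differ by a derivation. -/
noncomputable def diffDer (X : Ext A B L) (t s : B₀ →+* X.E) (hp : ∀ b, X.proj (t b) = X.proj (s b))
    (hs : ∀ b (z : L), X.proj (s b) • z = b • z)
    (hA : ∀ a, t (algebraMap A₀ B₀ a) = s (algebraMap A₀ B₀ a)) : Derivation A₀ B₀ L :=
  Derivation.mk'
    { toFun := fun b => diff X (t b) (s b) (hp b)
      map_add' := fun b b' => by
        apply X.isExtension.incl_injective
        simp only [map_add, incl_diff]
        ring
      map_smul' := fun a b => by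
        apply X.isExtension.incl_injective
        have h1 : (a • diff X (t b) (s b) (hp b) : L) = algebraMap A₀ B₀ a • diff X (t b) (s b) (hp b) :=
          (algebraMap_smul B₀ a _).symm
        rw [RingHom.id_apply, h1, ← hs, ← X.isExtension.mul_incl]
        simp only [incl_diff, Algebra.smul_def, map_mul, hA]
        ring }
    (fun b b' => by
      apply X.isExtension.incl_injective
      simp only [LinearMap.coe_mk, AddHom.coe_mk, map_add, incl_diff]
      rw [← hs b, ← hs b', ← hp b, ← X.isExtension.mul_incl (t b), ← X.isExtension.mul_incl (s b')]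
      simp only [incl_diff, map_mul]
      ring)

@[simp] lemma incl_diffDer (X : Ext A B L) (t s : B₀ →+* X.E) (hp : ∀ b, X.proj (t b) = X.proj (s b))
    (hs : ∀ b (z : L), X.proj (s b) • z = b • z)
    (hA : ∀ a, t (algebraMap A₀ B₀ a) = s (algebraMap A₀ B₀ a)) (b : B₀) :
    X.incl (diffDer X t s hp hs hA b) = t b - s b := by
  simp [diffDer]

end DiffDer

end General

section Sections

variable {A : Type u} {B : Type u'} {C L : Type v} [CommRing A] [CommRing B] [CommRing C]
  [Algebra A B] [Algebra B C] [Algebra A C] [IsScalarTower A B C] [AddCommGroup L] [Module C L]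

variable (A) in
/-- A section of a `B`-extension of `C` compatible with `A`. -/
structure Sec (X : Ext B C L) where
  /-- the section -/
  s : C →+* X.E
  proj_s : ∀ c, X.proj (s c) = c
  s_algebraMap : ∀ a, s (algebraMap A C a) = algebraMap B X.E (algebraMap A B a)

lemma isTrivialOver_iff_sec (X : Ext B C L) : X.IsTrivialOver A ↔ Nonempty (Sec A X) := by
  constructor
  · rintro ⟨s, hs⟩
    exact ⟨⟨s.toRingHom, hs, fun a => s.commutes a⟩⟩
  · rintro ⟨σ⟩
    exact ⟨{ σ.s with commutes' := σ.s_algebraMap }, σ.proj_s⟩

/-- An `A`-algebra section of an extension is a section over the base itself. -/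
lemma isTrivial_iff_sec (X : Ext B C L) : X.IsTrivial ↔ Nonempty (Sec B X) := by
  constructor
  · rintro ⟨s, hs⟩
    exact ⟨⟨s.toRingHom, hs, fun b => by simp⟩⟩
  · rintro ⟨σ⟩
    exact ⟨{ σ.s with commutes' := fun b => by simpa using σ.s_algebraMap b }, σ.proj_s⟩

namespace Sec

variable {X Y : Ext B C L} (σ : Sec A X)

@[simp] lemma proj_apply (c : C) : X.proj (σ.s c) = c := σ.proj_s c

/-- Decomposition of an element along a section. -/
lemma eq_add (x : X.E) :
    x = σ.s (X.proj x) + X.incl (diff X x (σ.s (X.proj x)) (σ.proj_s _).symm) := by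
  rw [incl_diff, add_sub_cancel]

variable [Module B L] [IsScalarTower B C L] [Module A L] [IsScalarTower A B L]

/-- The derivation of a section: `b ↦ b - s b`. -/
noncomputable def der : Derivation A B L :=
  diffDer X (algebraMap B X.E) (σ.s.comp (algebraMap B C))
    (fun b => by simp)
    (fun b z => by simp [algebraMap_smul])
    (fun a => by simp [← IsScalarTower.algebraMap_apply A B C, σ.s_algebraMap])

@[simp] lemma incl_der (b : B) :
    X.incl (σ.der b) = algebraMap B X.E b - σ.s (algebraMap B C b) :=
  incl_diffDer _ _ _ _ _ _ b

lemma algebraMap_eq (b : B) : algebraMap B X.E b = σ.s (algebraMap B C b) + X.incl (σ.der b) := by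
  rw [incl_der, add_sub_cancel]

lemma der_apply_eq {b : B} {z : L} (h : algebraMap B X.E b = σ.s (algebraMap B C b) + X.incl z) :
    σ.der b = z := by
  apply X.isExtension.incl_injective
  rw [incl_der, h, add_sub_cancel_left]

/-- Modify a section by a derivation of `C`. -/
noncomputable def twist [IsScalarTower A C L] (D : Derivation A C L) : Sec A X where
  s :=
    { toFun := fun c => σ.s c + X.incl (D c)
      map_one' := by simp
      map_mul' := fun c c' => by
        simp only [map_mul, Derivation.leibniz, map_add, add_mul, mul_add,
          X.isExtension.mul_incl, mul_incl', proj_apply, proj_incl, zero_smul, map_zero, add_zero]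
        abel
      map_zero' := by simp
      map_add' := fun c c' => by simp only [map_add]; abel }
  proj_s c := by simp
  s_algebraMap a := by simp [σ.s_algebraMap]

lemma twist_der [IsScalarTower A C L] (D : Derivation A C L) (b : B) :
    (σ.twist D).der b = σ.der b - D (algebraMap B C b) := by
  apply der_apply_eq
  change algebraMap B X.E b = σ.s (algebraMap B C b) + X.incl (D (algebraMap B C b)) + _
  rw [σ.algebraMap_eq b, map_sub]
  abel

/-- Two extensions with sections having the same derivation are equivalent. -/
noncomputable def equiv (τ : Sec A Y) (h : ∀ b, σ.der b = τ.der b) : X.Equiv Y :=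
  mkEquiv
    { toFun := fun x => τ.s (X.proj x) + Y.incl (diff X x (σ.s (X.proj x)) (σ.proj_s _).symm)
      map_one' := by
        have : diff X 1 (σ.s (X.proj 1)) (σ.proj_s _).symm = 0 := by rw [diff_eq_iff]; simp
        rw [this]; simp
      map_mul' := fun x y => by
        have : diff X (x * y) (σ.s (X.proj (x * y))) (σ.proj_s _).symm =
            X.proj x • diff X y (σ.s (X.proj y)) (σ.proj_s _).symm +
              X.proj y • diff X x (σ.s (X.proj x)) (σ.proj_s _).symm := by
          rw [diff_eq_iff]
          conv_lhs => rw [σ.eq_add x, σ.eq_add y]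
          simp only [map_mul, map_add, add_mul, mul_add,
            X.isExtension.mul_incl, mul_incl', proj_apply, proj_incl, zero_smul, map_zero, add_zero]
          abel
        rw [this]
        simp only [map_mul, map_add, add_mul, mul_add,
          Y.isExtension.mul_incl, mul_incl', proj_apply, proj_incl, zero_smul, map_zero, add_zero]
        abel
      map_zero' := by
        have : diff X 0 (σ.s (X.proj 0)) (σ.proj_s _).symm = 0 := by rw [diff_eq_iff]; simp
        rw [this]; simp
      map_add' := fun x y => by
        have : diff X (x + y) (σ.s (X.proj (x + y))) (σ.proj_s _).symm =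
            diff X x (σ.s (X.proj x)) (σ.proj_s _).symm +
              diff X y (σ.s (X.proj y)) (σ.proj_s _).symm := by
          rw [diff_eq_iff]
          conv_lhs => rw [σ.eq_add x, σ.eq_add y]
          simp only [map_add]
          abel
        rw [this]
        simp only [map_add]
        abel
      commutes' := fun b => by
        have : diff X (algebraMap B X.E b) (σ.s (X.proj (algebraMap B X.E b))) (σ.proj_s _).symm =
            σ.der b := by
          rw [diff_eq_iff, X.proj.commutes, ← σ.algebraMap_eq]
        rw [this, h, X.proj.commutes]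
        exact (τ.algebraMap_eq b).symm }
    (fun x => by simp)
    (fun z => by
      have : diff X (X.incl z) (σ.s (X.proj (X.incl z))) (σ.proj_s _).symm = z := by
        rw [diff_eq_iff]; simp
      change τ.s (X.proj (X.incl z)) + Y.incl (diff X (X.incl z) _ _) = Y.incl z
      rw [this]; simp)

end Sec

/-- Transport a section along an equivalence. -/
noncomputable def Sec.map {X Y : Ext B C L} (σ : Sec A X) (e : X.Equiv Y) : Sec A Y where
  s := (e.toAlgEquiv : X.E →+* Y.E).comp σ.s
  proj_s c := by simp [e.proj_apply]
  s_algebraMap a := by simp [σ.s_algebraMap]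

lemma Sec.map_der [Module B L] [IsScalarTower B C L] [Module A L] [IsScalarTower A B L]
    {X Y : Ext B C L} (σ : Sec A X) (e : X.Equiv Y) (b : B) : (σ.map e).der b = σ.der b := by
  apply Sec.der_apply_eq
  change _ = e.toAlgEquiv (σ.s (algebraMap B C b)) + _
  rw [← e.apply_incl, ← map_add, ← σ.algebraMap_eq, AlgEquiv.commutes]

lemma isTrivialOver_congr {X Y : Ext B C L} (e : X.Equiv Y) (h : X.IsTrivialOver A) :
    Y.IsTrivialOver A := by
  rw [isTrivialOver_iff_sec] at h ⊢
  exact h.map fun σ => σ.map e

end Sections

section DerExt

attribute [local instance] opModule isCentralScalar_opModule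

variable {A : Type u} {B : Type u'} {C L : Type v} [CommRing A] [CommRing B] [CommRing C]
  [Algebra A B] [Algebra B C] [Algebra A C] [IsScalarTower A B C] [AddCommGroup L] [Module C L]
  [Module B L] [IsScalarTower B C L] [Module A L] [IsScalarTower A B L]

/-- The middle ring of `derExt`. -/
def DerRing (_D : Derivation A B L) (C : Type v) [CommRing C] [Module C L] : Type v := TrivSqZeroExt C L

instance (D : Derivation A B L) : CommRing (DerRing D C) :=
  inferInstanceAs (CommRing (TrivSqZeroExt C L))

/-- `b ↦ (b, D b)`. -/
noncomputable def derHom (D : Derivation A B L) : B →+* TrivSqZeroExt C L where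
  toFun x := TrivSqZeroExt.inl (algebraMap B C x) + TrivSqZeroExt.inr (D x)
  map_one' := by simp
  map_mul' x y := by
    apply TrivSqZeroExt.ext
    · simp
    · simp [algebraMap_smul, add_comm]
  map_zero' := by simp
  map_add' x y := by
    rw [map_add, map_add, TrivSqZeroExt.inl_add, TrivSqZeroExt.inr_add]
    abel

noncomputable instance (D : Derivation A B L) : Algebra B (DerRing D C) :=
  (derHom D : B →+* DerRing D C).toAlgebra

/-- The extension attached to a derivation (arbitrary universe for the base). -/
noncomputable def derExt (D : Derivation A B L) : Ext B C L where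
  E := DerRing D C
  proj :=
    { toFun := fun x => TrivSqZeroExt.fst x
      map_one' := TrivSqZeroExt.fst_one
      map_mul' := TrivSqZeroExt.fst_mul
      map_zero' := TrivSqZeroExt.fst_zero
      map_add' := TrivSqZeroExt.fst_add
      commutes' := fun x => by
        change TrivSqZeroExt.fst (TrivSqZeroExt.inl (algebraMap B C x) + TrivSqZeroExt.inr (D x)) = _
        simp }
  incl := (TrivSqZeroExt.inrHom C L).toAddMonoidHom
  isExtension :=
    { proj_surjective := fun c => ⟨TrivSqZeroExt.inl c, rfl⟩
      incl_injective := TrivSqZeroExt.inr_injective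
      exact := fun x =>
        ⟨fun hx => ⟨TrivSqZeroExt.snd x, TrivSqZeroExt.ext hx.symm rfl⟩, by rintro ⟨z, rfl⟩; rfl⟩
      mul_incl := fun x z => by
        refine TrivSqZeroExt.ext ?_ ?_
        · change TrivSqZeroExt.fst x * 0 = 0
          exact mul_zero _
        · change TrivSqZeroExt.fst x • z + MulOpposite.op (0 : C) • TrivSqZeroExt.snd x =
            TrivSqZeroExt.fst x • z
          simp }

/-- The canonical section of `derExt D`. -/
noncomputable def derExtSec (D : Derivation A B L) : Sec A (derExt (C := C) D) where
  s := (TrivSqZeroExt.inlHom C L : C →+* TrivSqZeroExt C L)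
  proj_s _ := rfl
  s_algebraMap a := by
    change (TrivSqZeroExt.inl (algebraMap A C a) : TrivSqZeroExt C L) =
      TrivSqZeroExt.inl (algebraMap B C (algebraMap A B a)) + TrivSqZeroExt.inr (D (algebraMap A B a))
    simp [← IsScalarTower.algebraMap_apply A B C]

lemma derExtSec_der (D : Derivation A B L) (b : B) : (derExtSec (C := C) D).der b = D b := by
  apply Sec.der_apply_eq
  rfl

lemma derExt_isTrivialOver (D : Derivation A B L) : (derExt (C := C) D).IsTrivialOver A :=
  (isTrivialOver_iff_sec _).2 ⟨derExtSec D⟩

end DerExt

section OfDerivation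

variable {A : Type u} {B C L : Type v} [CommRing A] [CommRing B] [CommRing C]
  [Algebra A B] [Algebra B C] [Algebra A C] [IsScalarTower A B C] [AddCommGroup L] [Module C L]
  [Module B L] [IsScalarTower B C L] [Module A L] [IsScalarTower A B L]

attribute [local instance] opModule isCentralScalar_opModule

/-- The canonical section of `Exal.Ext.ofDerivation D`. -/
noncomputable def ofDerivationSec (D : Derivation A B L) :
    Sec A (Ext.ofDerivation (C := C) D) where
  s := (TrivSqZeroExt.inlHom C L : C →+* TrivSqZeroExt C L)
  proj_s _ := rfl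
  s_algebraMap a := by
    change (TrivSqZeroExt.inl (algebraMap A C a) : TrivSqZeroExt C L) =
      TrivSqZeroExt.inl (algebraMap B C (algebraMap A B a)) + TrivSqZeroExt.inr (D (algebraMap A B a))
    simp [← IsScalarTower.algebraMap_apply A B C]

lemma ofDerivationSec_der (D : Derivation A B L) (b : B) :
    (ofDerivationSec (C := C) D).der b = D b := by
  apply Sec.der_apply_eq
  rfl

end OfDerivation

end Groth.Agent.Exal
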