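import Mathlib
import Groth.Prelude.Def_Exal3
import Groth.Agent.Exal.Basic

/-!
# The characteristic homomorphism of an extension trivial over the base

For a section `σ : Sec A X` the characteristic homomorphism is the restriction to the
imperfection module of the `C`-linear map `C ⊗[B] Ω[B⁄A] → L` given by the derivation `σ.der`.
-/

universe u v

open TensorProduct KaehlerDifferential

namespace Groth.Agent.Exal

open _root_.Exal

variable {A : Type u} {B C L : Type v} [CommRing A] [CommRing B] [CommRing C]
  [Algebra A B] [Algebra B C] [Algebra A C] [IsScalarTower A B C] [AddCommGroup L] [Module C L]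
  [Module B L] [IsScalarTower B C L] [Module A L] [IsScalarTower A B L]

/-- The `C`-linear map `C ⊗ Ω[B⁄A] → L` given by a derivation. -/
noncomputable def liftC (D : Derivation A B L) : C ⊗[B] Ω[B⁄A] →ₗ[C] L :=
  (TensorProduct.isBaseChange B Ω[B⁄A] C).lift D.liftKaehlerDifferential

omit [Algebra A C] [IsScalarTower A B C] in
@[simp] lemma liftC_tmul (D : Derivation A B L) (c : C) (b : B) :
    liftC (C := C) D (c ⊗ₜ KaehlerDifferential.D A B b) = c • D b := by
  conv_lhs => rw [← mul_one c, ← smul_eq_mul, ← TensorProduct.smul_tmul', map_smul]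
  congr 1
  refine (IsBaseChange.lift_eq _ _ _).trans ?_
  exact D.liftKaehlerDifferential_comp_D b

omit [Algebra A C] [IsScalarTower A B C] [Module B L] [IsScalarTower B C L] [Module A L]
  [IsScalarTower A B L] in
/-- Linear maps out of `C ⊗ Ω[B⁄A]` are determined on the elements `1 ⊗ d b`. -/
lemma linearMap_ext {M : Type*} [AddCommGroup M] [Module C M] {f g : C ⊗[B] Ω[B⁄A] →ₗ[C] M}
    (h : ∀ b : B, f (1 ⊗ₜ KaehlerDifferential.D A B b) = g (1 ⊗ₜ KaehlerDifferential.D A B b)) :
    f = g := by
  ext z
  induction z with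
  | zero => simp
  | add x y hx hy => simp [hx, hy]
  | tmul c ω =>
    have hω : ω ∈ Submodule.span B (Set.range (KaehlerDifferential.D A B)) := by
      rw [KaehlerDifferential.span_range_derivation]; trivial
    induction hω using Submodule.span_induction generalizing c with
    | mem x hx =>
      obtain ⟨b, rfl⟩ := hx
      rw [← mul_one c, ← smul_eq_mul, ← TensorProduct.smul_tmul', map_smul, map_smul, h]
    | zero => simp
    | add x y _ _ hx hy => simp [TensorProduct.tmul_add, hx, hy]
    | smul a x _ hx => simp only [← TensorProduct.smul_tmul, hx]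

section Square

variable (X : Ext B C L)

omit [Module B L] [IsScalarTower B C L] [Module A L] [IsScalarTower A B L] in
lemma charCarrier_smul (e : X.CharCarrier A) (c : C) : e • c = X.proj e * c := rfl

omit [Module B L] [IsScalarTower B C L] [Module A L] [IsScalarTower A B L] in
lemma one_tmul_D_mul (x y : X.CharCarrier A) :
    (1 : C) ⊗ₜ[X.CharCarrier A] KaehlerDifferential.D A (X.CharCarrier A) (x * y) =
      X.proj x • ((1 : C) ⊗ₜ[X.CharCarrier A] KaehlerDifferential.D A (X.CharCarrier A) y) +
      X.proj y • ((1 : C) ⊗ₜ[X.CharCarrier A] KaehlerDifferential.D A (X.CharCarrier A) x) := by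
  rw [Derivation.leibniz, TensorProduct.tmul_add, ← TensorProduct.smul_tmul,
    ← TensorProduct.smul_tmul, TensorProduct.smul_tmul', TensorProduct.smul_tmul',
    charCarrier_smul, charCarrier_smul, smul_eq_mul, smul_eq_mul]

variable (A) in
/-- `deltaL` is `C`-linear. -/
noncomputable def deltaLin : L →ₗ[C] C ⊗[X.CharCarrier A] Ω[X.CharCarrier A⁄A] where
  toFun := X.deltaL A
  map_add' := map_add _
  map_smul' c z := by
    obtain ⟨e, rfl⟩ := X.isExtension.proj_surjective c
    change (1 : C) ⊗ₜ[X.CharCarrier A]
      KaehlerDifferential.D A (X.CharCarrier A) (X.inclC A (X.proj e • z)) = _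
    let e' : X.CharCarrier A := e
    have h : X.inclC A (X.proj e • z) = e' * X.inclC A z :=
      (X.isExtension.mul_incl e z).symm
    rw [h, one_tmul_D_mul]
    have h0 : X.proj (X.inclC A z) = 0 := proj_incl X z
    rw [h0, zero_smul, add_zero]
    rfl

variable (A) in
/-- The map `C ⊗ Ω[B⁄A] → C ⊗ Ω[E⁄A]`, linear over `C`. -/
noncomputable def bcm : C ⊗[B] Ω[B⁄A] →ₗ[C] C ⊗[X.CharCarrier A] Ω[X.CharCarrier A⁄A] :=
  (TensorProduct.isBaseChange B Ω[B⁄A] C).lift
    { toFun := fun ω => (1 : C) ⊗ₜ[X.CharCarrier A] KaehlerDifferential.map A A B (X.CharCarrier A) ω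
      map_add' := fun ω ω' => by rw [map_add, TensorProduct.tmul_add]
      map_smul' := fun b ω => by
        rw [map_smul, RingHom.id_apply, ← IsScalarTower.algebraMap_smul (X.CharCarrier A) b,
          ← TensorProduct.smul_tmul, TensorProduct.smul_tmul', IsScalarTower.algebraMap_smul] }

omit [Module B L] [IsScalarTower B C L] [Module A L] [IsScalarTower A B L] in
lemma bcm_tmul (c : C) (ω : Ω[B⁄A]) :
    bcm A X (c ⊗ₜ ω) = c ⊗ₜ[X.CharCarrier A] KaehlerDifferential.map A A B (X.CharCarrier A) ω := by
  conv_lhs => rw [← mul_one c, ← smul_eq_mul, ← TensorProduct.smul_tmul', map_smul]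
  have h : bcm A X ((1 : C) ⊗ₜ ω) =
      (1 : C) ⊗ₜ[X.CharCarrier A] KaehlerDifferential.map A A B (X.CharCarrier A) ω :=
    IsBaseChange.lift_eq _ _ _
  rw [h, TensorProduct.smul_tmul', smul_eq_mul, mul_one]

omit [Module B L] [IsScalarTower B C L] [Module A L] [IsScalarTower A B L] in
lemma baseChangeToMiddle_eq (z : C ⊗[B] Ω[B⁄A]) : X.baseChangeToMiddle A z = bcm A X z := by
  induction z with
  | zero => simp
  | add x y hx hy => rw [map_add, map_add, hx, hy]
  | tmul c ω => rw [bcm_tmul]; rfl

variable {X} (σ : Sec A X)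

/-- The section with values in `CharCarrier`. -/
def secHom : C →+* X.CharCarrier A := σ.s

omit [Module B L] [IsScalarTower B C L] [Module A L] [IsScalarTower A B L] in
@[simp] lemma proj_secHom (c : C) : X.proj (secHom σ c) = c := σ.proj_s c

omit [Module B L] [IsScalarTower B C L] [Module A L] [IsScalarTower A B L] in
lemma secHom_algebraMap (a : A) :
    secHom σ (algebraMap A C a) = algebraMap A (X.CharCarrier A) a := σ.s_algebraMap a

/-- The map `Ω[C⁄A] → C ⊗ Ω[E⁄A]` given by a section. -/
noncomputable def secMap : Ω[C⁄A] →ₗ[C] C ⊗[X.CharCarrier A] Ω[X.CharCarrier A⁄A] :=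
  Derivation.liftKaehlerDifferential
    (Derivation.mk'
      { toFun := fun c => (1 : C) ⊗ₜ[X.CharCarrier A] KaehlerDifferential.D A (X.CharCarrier A) (secHom σ c)
        map_add' := fun c c' => by rw [map_add, map_add, TensorProduct.tmul_add]
        map_smul' := fun a c => by
          rw [Algebra.smul_def, map_mul, secHom_algebraMap, ← Algebra.smul_def,
            Derivation.map_smul, TensorProduct.tmul_smul, RingHom.id_apply] }
      (fun c c' => by
        change (1 : C) ⊗ₜ[X.CharCarrier A]
            KaehlerDifferential.D A (X.CharCarrier A) (secHom σ (c * c')) = _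
        rw [map_mul, one_tmul_D_mul, proj_secHom, proj_secHom]
        rfl))

omit [Module B L] [IsScalarTower B C L] [Module A L] [IsScalarTower A B L] in
lemma secMap_D (c : C) : secMap σ (KaehlerDifferential.D A C c) =
    (1 : C) ⊗ₜ[X.CharCarrier A] KaehlerDifferential.D A (X.CharCarrier A) (secHom σ c) :=
  Derivation.liftKaehlerDifferential_comp_D _ c

/-- The square, on all of `C ⊗ Ω[B⁄A]`. -/
lemma bcm_eq :
    bcm A X = (secMap σ).comp (mapBaseChange A B C) + (deltaLin A X).comp (liftC σ.der) := by
  apply linearMap_ext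
  intro b
  rw [LinearMap.add_apply, LinearMap.comp_apply, LinearMap.comp_apply, liftC_tmul, one_smul,
    mapBaseChange_tmul, one_smul, map_D, secMap_D, bcm_tmul, map_D]
  have h : (algebraMap B (X.CharCarrier A) b) =
      secHom σ (algebraMap B C b) + X.inclC A (σ.der b) := σ.algebraMap_eq b
  conv_lhs => rw [h, map_add, TensorProduct.tmul_add]
  rfl

include σ in
/-- A left inverse of `deltaL` given by a section. -/
lemma deltaLin_injective : Function.Injective (deltaLin A X) := by
  letI : Module (X.CharCarrier A) L := Module.compHom L (algebraMap (X.CharCarrier A) C)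
  haveI : IsScalarTower (X.CharCarrier A) C L :=
    IsScalarTower.of_algebraMap_smul fun _ _ => rfl
  haveI : IsScalarTower A (X.CharCarrier A) L := IsScalarTower.of_algebraMap_smul fun a z => by
    change algebraMap (X.CharCarrier A) C (algebraMap A (X.CharCarrier A) a) • z = a • z
    rw [← IsScalarTower.algebraMap_apply, IsScalarTower.algebraMap_apply A B C, algebraMap_smul,
      algebraMap_smul]
  let DE : Derivation A (X.CharCarrier A) L :=
    diffDer (A₀ := A) X (RingHom.id X.E : X.CharCarrier A →+* X.E)
      (σ.s.comp (X.proj.toRingHom : X.CharCarrier A →+* C))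
      (fun e => (σ.proj_s _).symm)
      (fun e z => by
        change X.proj (σ.s (X.proj e)) • z = algebraMap (X.CharCarrier A) C e • z
        rw [σ.proj_s]; rfl)
      (fun a => by
        change algebraMap B X.E (algebraMap A B a) = σ.s (X.proj (algebraMap B X.E (algebraMap A B a)))
        rw [X.proj.commutes, ← IsScalarTower.algebraMap_apply A B C, σ.s_algebraMap])
  let Φ : C ⊗[X.CharCarrier A] Ω[X.CharCarrier A⁄A] →ₗ[C] L :=
    (TensorProduct.isBaseChange (X.CharCarrier A) Ω[X.CharCarrier A⁄A] C).lift
      DE.liftKaehlerDifferential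
  have hΦ : ∀ z, Φ (deltaLin A X z) = z := by
    intro z
    have h1 : Φ (deltaLin A X z) = DE (X.inclC A z) :=
      (IsBaseChange.lift_eq _ _ _).trans (DE.liftKaehlerDifferential_comp_D _)
    rw [h1]
    apply X.isExtension.incl_injective
    refine (incl_diffDer _ _ _ _ _ _ _).trans ?_
    change X.incl z - σ.s (X.proj (X.incl z)) = X.incl z
    rw [proj_incl, map_zero, sub_zero]
  exact Function.LeftInverse.injective hΦ

lemma bcm_of_mem (z : EGA41.imperfection A B C) :
    X.baseChangeToMiddle A (z : C ⊗[B] Ω[B⁄A]) = X.deltaL A (liftC σ.der (z : C ⊗[B] Ω[B⁄A])) := by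
  rw [baseChangeToMiddle_eq, bcm_eq σ, LinearMap.add_apply, LinearMap.comp_apply,
    LinearMap.comp_apply, LinearMap.mem_ker.1 z.2, map_zero, zero_add]
  rfl

/-- The characteristic homomorphism is the restriction of `liftC σ.der`. -/
theorem isCharHom_iff (χ : EGA41.imperfection A B C →ₗ[C] L) :
    X.IsCharHom A χ ↔ ∀ z, χ z = liftC σ.der (z : C ⊗[B] Ω[B⁄A]) := by
  constructor
  · intro h z
    exact deltaLin_injective σ ((h z).trans (bcm_of_mem σ z))
  · intro h z
    rw [bcm_of_mem σ z, h z]

/-- The characteristic homomorphism given by a section. -/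
noncomputable def Sec.charHom : EGA41.imperfection A B C →ₗ[C] L :=
  (liftC σ.der).comp (EGA41.imperfection A B C).subtype

theorem Sec.isCharHom : X.IsCharHom A σ.charHom :=
  (isCharHom_iff σ _).2 fun _ => rfl

end Square

end Groth.Agent.Exal
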