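import Mathlib

/-!
# Linear maps out of `C ⊗[B] Ω[B⁄A]`
-/

open TensorProduct

namespace Groth.Agent.Exal.KaehlerExt

variable {A B C : Type*} [CommRing A] [CommRing B] [CommRing C] [Algebra A B] [Algebra B C]

/-- Linear maps out of `C ⊗ Ω[B⁄A]` are determined on the elements `1 ⊗ d b` (any universes). -/
lemma linearMap_ext {M : Type*} [AddCommGroup M] [Module C M] {f g : C ⊗[B] Ω[B⁄A] →ₗ[C] M}
    (h : ∀ b : B, f (1 ⊗ₜ KaehlerDifferential.D A B b) = g (1 ⊗ₜ KaehlerDifferential.D A B b)) :
    f = g := by
  ext z
  induction z with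
  | zero => simp
  | add x y hx hy => simp [hx, hy]
  | tmul c ω =>
    have hω : ω ∈ Submodule.span B (Set.range (KaehlerDifferential.D A B)) := by
      rw [KaehlerDifferential.span_range_derivation]; trivial
    induction hω using Submodule.span_induction generalizing c with
    | mem x hx =>
      obtain ⟨b, rfl⟩ := hx
      rw [← mul_one c, ← smul_eq_mul, ← TensorProduct.smul_tmul', map_smul, map_smul, h]
    | zero => simp
    | add x y _ _ hx hy => simp [TensorProduct.tmul_add, hx, hy]
    | smul a x _ hx => simp only [← TensorProduct.smul_tmul, hx]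

end Groth.Agent.Exal.KaehlerExt
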