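import Mathlib
import Groth.Agent.Exal.Basic

/-!
# Square-zero ideals as extensions; lifting

`sqZeroExt I hI : Ext A (C ⧸ I) I.Cotangent` has middle ring `C`; `quotEquiv X` identifies
`X.E ⧸ ker proj` with the quotient of an extension.
-/

universe u v

namespace Groth.Agent.Exal

open _root_.Exal

variable (A : Type u) [CommRing A] {C : Type v} [CommRing C] [Algebra A C] (I : Ideal C)

/-- `I/I² → C` for a square-zero ideal. -/
noncomputable def cotangentIncl (hI : I ^ 2 = ⊥) : I.Cotangent →ₗ[C] C :=
  Submodule.liftQ (I • ⊤ : Submodule C I) I.subtype (by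
    rw [Submodule.smul_le]
    intro r hr x _
    rw [LinearMap.mem_ker, map_smul, Submodule.subtype_apply, smul_eq_mul]
    have h : r * (x : C) ∈ I ^ 2 := by rw [pow_two]; exact Ideal.mul_mem_mul hr x.2
    rwa [hI, Ideal.mem_bot] at h)

@[simp] lemma cotangentIncl_toCotangent (hI : I ^ 2 = ⊥) (x : I) :
    cotangentIncl I hI (I.toCotangent x) = x := rfl

/-- A square-zero ideal as an extension of the quotient. -/
noncomputable def sqZeroExt (hI : I ^ 2 = ⊥) : Ext A (C ⧸ I) I.Cotangent where
  E := C
  proj := Ideal.Quotient.mkₐ A I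
  incl := (cotangentIncl I hI).toAddMonoidHom
  isExtension :=
    { proj_surjective := Ideal.Quotient.mk_surjective
      incl_injective := fun x y h => by
        obtain ⟨x, rfl⟩ := I.toCotangent_surjective x
        obtain ⟨y, rfl⟩ := I.toCotangent_surjective y
        exact congrArg _ (Subtype.ext h)
      exact := fun x => by
        constructor
        · intro hx
          exact ⟨I.toCotangent ⟨x, Ideal.Quotient.eq_zero_iff_mem.1 hx⟩, rfl⟩
        · rintro ⟨z, hz⟩
          obtain ⟨z, rfl⟩ := I.toCotangent_surjective z
          rw [← hz]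
          exact Ideal.Quotient.eq_zero_iff_mem.2 z.2
      mul_incl := fun x z => by
        change x * cotangentIncl I hI z = cotangentIncl I hI ((algebraMap C (C ⧸ I) x) • z)
        rw [algebraMap_smul, map_smul, smul_eq_mul] }

variable {A} {B L : Type v} [CommRing B] [Algebra A B] [AddCommGroup L] [Module B L]

/-- The kernel of the projection of an extension has square zero. -/
lemma ker_proj_sq (X : Ext A B L) : (RingHom.ker X.proj) ^ 2 = ⊥ := by
  rw [pow_two, eq_bot_iff, Ideal.mul_le]
  intro x hx y hy
  obtain ⟨z, rfl⟩ := (X.isExtension.exact x).1 hx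
  obtain ⟨z', rfl⟩ := (X.isExtension.exact y).1 hy
  rw [incl_mul_incl]; exact zero_mem _

end Groth.Agent.Exal
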